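import Groth.Prelude.Def_W4c3ghconstell
import Groth.Agent.L08.SimpleSubcoalg
import Mathlib.Analysis.Normed.Group.InfiniteSum
import Mathlib.Analysis.Normed.Group.Real
import Mathlib.Topology.Algebra.InfiniteSum.Order
import Mathlib.Analysis.RCLike.Basic

/-! Weights of equivariant submodules. -/

universe u v w x

open TensorProduct W4c3ghconstell
open scoped Groth.L08

set_option linter.style.haveILetI false
set_option linter.unusedSectionVars false

namespace Groth.L28.GhConst

section Coalg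

variable {k : Type u} [Field k] {A : Type v} [AddCommGroup A] [Module k A] [Coalgebra k A]
  {M : Type x} [AddCommGroup M] [Module k M] [HopfRep.Comod k A M]

theorem mem_isoComp_iff {D : Submodule k A} {m : M} :
    m ∈ isoComp M D ↔ ∀ f : Module.Dual k M, Groth.L08.cf (A := A) f m ∈ D :=
  Submodule.mem_comap.trans ((Groth.L08.mem_range_lTensor_subtype_iff D _).trans
    (forall_congr' fun f => by rw [Groth.L08.cf_apply]))

theorem isSubcomod_isoComp (D : SimpSub k A) : HopfRep.IsSubcomod (k := k) (A := A) (isoComp M D.1) := by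
  rw [Groth.L08.isSubcomod_iff]
  intro φ m hm
  rw [mem_isoComp_iff] at hm ⊢
  intro f
  rw [Groth.L08.fAct_comm_of_isComodHom (Groth.L08.isComodHom_cf f) φ m]
  exact Groth.L08.fAct_mem_of_isSubcomod (Groth.L08.isSubcoalg_iff.1 D.2.2.1).1 φ (hm f)

theorem exists_inf_isoComp_ne_bot {W : Submodule k M} (hW : HopfRep.IsSubcomod (k := k) (A := A) W)
    (hne : W ≠ ⊥) : ∃ D : SimpSub k A, W ⊓ isoComp M D.1 ≠ ⊥ := by
  obtain ⟨S, hle, hS⟩ := Groth.L08.exists_simple_subcomod (W := Groth.L08.toSub hW)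
    (fun e => hne (by
      rw [_root_.eq_bot_iff]
      intro x hx
      have : x ∈ Groth.L08.toSub hW := hx
      rw [e, Submodule.mem_bot] at this
      exact (Submodule.mem_bot k).2 this))
  refine ⟨⟨Groth.L08.coeff k A (S.restrictScalars k), Groth.L08.isSimpleSubcoalg_coeff⟩, fun h => ?_⟩
  obtain ⟨x, hx, hx0⟩ := S.ne_bot_iff.1 (isSimpleModule_iff_isAtom.1 hS).1
  have : x ∈ W ⊓ isoComp M (Groth.L08.coeff k A (S.restrictScalars k)) :=
    ⟨hle hx, mem_isoComp_iff.2 fun f => Groth.L08.cf_mem_coeff (W := S.restrictScalars k) f hx⟩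
  rw [h] at this
  exact hx0 ((Submodule.mem_bot k).1 this)

variable {h : SimpSub k A → ℕ} {θ : SimpSub k A → ℚ}
  (hfd : ∀ D : SimpSub k A, Module.Finite k ↥(isoComp M D.1) ∧ Module.finrank k ↥(isoComp M D.1) = h D)

include hfd

theorem hilbAt_le (N : Submodule k M) (D : SimpSub k A) : hilbAt M N D ≤ h D := by
  haveI := (hfd D).1
  exact (Submodule.finrank_mono inf_le_right).trans_eq (hfd D).2

theorem hilbAt_top (D : SimpSub k A) : hilbAt M ⊤ D = h D := by
  rw [hilbAt, top_inf_eq]; exact (hfd D).2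

theorem hilbAt_mono {N N' : Submodule k M} (hle : N ≤ N') (D : SimpSub k A) : hilbAt M N D ≤ hilbAt M N' D := by
  haveI := (hfd D).1
  haveI : Module.Finite k ↥(N' ⊓ isoComp M D.1) := Submodule.finiteDimensional_of_le inf_le_right
  exact Submodule.finrank_mono (inf_le_inf_right _ hle)

theorem isoComp_le_of_hilbAt {N : Submodule k M} {D : SimpSub k A} (hN : hilbAt M N D = h D) :
    isoComp M D.1 ≤ N := by
  haveI := (hfd D).1
  have := Submodule.eq_of_le_of_finrank_le (inf_le_right : N ⊓ isoComp M D.1 ≤ _) ((hfd D).2.trans hN.symm).le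
  rw [← this]; exact inf_le_left

theorem hilbAt_pos {N : Submodule k M} {D : SimpSub k A} (hN : N ⊓ isoComp M D.1 ≠ ⊥) :
    0 < hilbAt M N D := by
  haveI := (hfd D).1
  haveI : Module.Finite k ↥(N ⊓ isoComp M D.1) := Submodule.finiteDimensional_of_le inf_le_right
  exact Nat.pos_of_ne_zero fun h0 => hN (Submodule.finrank_eq_zero.1 h0)

variable (hsum : Summable fun D => (θ D : ℝ) * (h D : ℝ))

include hsum

theorem summable_hilbAt (N : Submodule k M) : Summable fun D => (θ D : ℝ) * (hilbAt M N D : ℝ) :=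
  Summable.of_norm_bounded hsum.abs fun D => by
    rw [Real.norm_eq_abs, abs_mul, abs_mul, Nat.abs_cast, Nat.abs_cast]
    exact mul_le_mul_of_nonneg_left (by exact_mod_cast hilbAt_le hfd N D) (abs_nonneg _)

theorem theta_le {N N' : Submodule k M} (hle : N' ≤ N)
    (hS : ∀ D, θ D < 0 → hilbAt M N D ≤ hilbAt M N' D) : theta M θ N' ≤ theta M θ N := by
  refine Summable.tsum_le_tsum (fun D => ?_) (summable_hilbAt hfd hsum N') (summable_hilbAt hfd hsum N)
  rcases lt_or_ge (θ D) 0 with hD | hD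
  · rw [le_antisymm (hS D hD) (hilbAt_mono hfd hle D)]
  · exact mul_le_mul_of_nonneg_left (Nat.cast_le.2 (hilbAt_mono hfd hle D)) (Rat.cast_nonneg.2 hD)

theorem hilbAt_eq_of_theta_eq {N N' : Submodule k M} (hle : N' ≤ N)
    (hS : ∀ D, θ D < 0 → hilbAt M N D ≤ hilbAt M N' D) (he : theta M θ N' = theta M θ N)
    {D : SimpSub k A} (hD : θ D ≠ 0) : hilbAt M N' D = hilbAt M N D := by
  rcases lt_or_ge (θ D) 0 with hD' | hD'
  · exact le_antisymm (hilbAt_mono hfd hle D) (hS D hD')
  by_contra hne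
  have hlt : hilbAt M N' D < hilbAt M N D := lt_of_le_of_ne (hilbAt_mono hfd hle D) hne
  refine (ne_of_lt ?_) he
  refine Summable.tsum_lt_tsum (i := D) (fun E => ?_) ?_ (summable_hilbAt hfd hsum N') (summable_hilbAt hfd hsum N)
  · rcases lt_or_ge (θ E) 0 with hE | hE
    · rw [le_antisymm (hS E hE) (hilbAt_mono hfd hle E)]
    · exact mul_le_mul_of_nonneg_left (Nat.cast_le.2 (hilbAt_mono hfd hle E)) (Rat.cast_nonneg.2 hE)
  · exact mul_lt_mul_of_pos_left (Nat.cast_lt.2 hlt)
      (Rat.cast_pos.2 (lt_of_le_of_ne hD' (Ne.symm hD)))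

omit hfd hsum in
theorem hilbAt_bot (D : SimpSub k A) : hilbAt M (⊥ : Submodule k M) D = 0 := by
  have : (⊥ : Submodule k M) ⊓ isoComp M D.1 = ⊥ := le_bot_iff.1 inf_le_left
  rw [hilbAt, this, finrank_bot]

omit hfd hsum in
theorem theta_bot : theta M θ (⊥ : Submodule k M) = 0 := by
  simp only [theta, hilbAt_bot, Nat.cast_zero, mul_zero, tsum_zero]

theorem theta_pos {N : Submodule k M} (hN : HopfRep.IsSubcomod (k := k) (A := A) N) (hne : N ≠ ⊥)
    (h0 : ∀ D, θ D < 0 → hilbAt M N D = 0) (hθ : ∀ D, h D ≠ 0 → θ D ≠ 0) : 0 < theta M θ N := by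
  obtain ⟨D, hD⟩ := exists_inf_isoComp_ne_bot hN hne
  have hp := hilbAt_pos hfd hD
  have hS : ∀ E, θ E < 0 → hilbAt M N E ≤ hilbAt M (⊥ : Submodule k M) E := fun E hE => by rw [h0 E hE]; exact Nat.zero_le _
  have hle := theta_le hfd hsum (bot_le : ⊥ ≤ N) hS
  rw [theta_bot] at hle
  refine lt_of_le_of_ne hle fun he => ?_
  have := hilbAt_eq_of_theta_eq hfd hsum (bot_le : ⊥ ≤ N) hS (by rw [theta_bot]; exact he)
    (hθ D fun h0 => by have := hilbAt_le hfd N D; omega)
  rw [hilbAt_bot] at this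
  omega

end Coalg

section Module

variable (k : Type u) [Field k] (A : Type v) [CommRing A] [Bialgebra k A]
  (R : Type w) [CommRing R] [Algebra k R] [HopfRep.Comod k A R]
  (M : Type x) [AddCommGroup M] [Module k M] [Module R M] [IsScalarTower k R M]
  [HopfRep.Comod k A M]

theorem genIn_le (S : Set (SimpSub k A)) (N : Submodule R M) : genIn k A R M S N ≤ N :=
  Submodule.span_le.2 (Set.iUnion₂_subset fun _ _ _ hx => hx.1)

theorem inf_isoComp_le_genIn (S : Set (SimpSub k A)) (N : Submodule R M) {D : SimpSub k A} (hD : D ∈ S) :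
    N.restrictScalars k ⊓ isoComp M D.1 ≤ (genIn k A R M S N).restrictScalars k :=
  fun _ hx => Submodule.subset_span (Set.mem_biUnion hD hx)

theorem genIn_idem (S : Set (SimpSub k A)) (N : Submodule R M) :
    genIn k A R M S (genIn k A R M S N) = genIn k A R M S N :=
  le_antisymm (genIn_le k A R M S _) (Submodule.span_le.2 (Set.iUnion₂_subset fun _ hD _ hx =>
    Submodule.subset_span (Set.mem_biUnion hD ⟨inf_isoComp_le_genIn k A R M S N hD hx, hx.2⟩)))

theorem isSubcomod_genIn [TameAct.IsHopfMod k A R M] (S : Set (SimpSub k A)) (N : Submodule R M)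
    (hN : HopfRep.IsSubcomod (k := k) (A := A) (N.restrictScalars k)) :
    HopfRep.IsSubcomod (k := k) (A := A) ((genIn k A R M S N).restrictScalars k) := by
  intro m hm
  let P := (genIn k A R M S N).restrictScalars k
  replace hm : m ∈ Submodule.span R (⋃ D ∈ S, ((N.restrictScalars k ⊓ isoComp M D.1 : Submodule k M) : Set M)) := hm
  induction hm using Submodule.span_induction with
  | mem x hx =>
    obtain ⟨D, hD, hx⟩ := Set.mem_iUnion₂.1 hx
    have h1 := Groth.L08.isSubcomod_inf hN (isSubcomod_isoComp (M := M) D) x hx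
    rw [Groth.L08.mem_range_rTensor_subtype_iff] at h1 ⊢
    exact fun φ => inf_isoComp_le_genIn k A R M S N hD (h1 φ)
  | zero => exact ⟨0, by simp⟩
  | add x y _ _ hx hy =>
    obtain ⟨a, ha⟩ := hx
    obtain ⟨b, hb⟩ := hy
    exact ⟨a + b, by rw [map_add, map_add, ha, hb]⟩
  | smul r x _ hx =>
    rw [TameAct.IsHopfMod.coact_smul]
    obtain ⟨y, hy⟩ := hx
    rw [← hy]
    generalize HopfRep.Comod.coact (k := k) (A := A) r = t
    induction t using TensorProduct.induction_on with
    | zero => exact ⟨0, by simp⟩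
    | add s t hs ht =>
      rw [map_add, LinearMap.add_apply]
      exact add_mem hs ht
    | tmul b a =>
      clear hy
      induction y using TensorProduct.induction_on with
      | zero => exact ⟨0, by simp⟩
      | add s t hs ht =>
        rw [map_add, map_add]
        exact add_mem hs ht
      | tmul z a' =>
        rw [LinearMap.rTensor_tmul, TameAct.hmSMul_tmul]
        exact ⟨(⟨b • (z : M), Submodule.smul_mem _ b z.2⟩ : P) ⊗ₜ[k] (a * a'), rfl⟩

theorem genIn_facts [TameAct.IsHopfMod k A R M] {h : SimpSub k A → ℕ} {θ : SimpSub k A → ℚ}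
    (hM : IsConstellation k A R M h) (hsum : Summable fun D => (θ D : ℝ) * (h D : ℝ))
    (N : Submodule R M) :
    (∀ D, θ D < 0 → hilbAt M (N.restrictScalars k) D ≤
        hilbAt M ((genIn k A R M {D | θ D < 0} N).restrictScalars k) D) ∧
      theta M θ ((genIn k A R M {D | θ D < 0} N).restrictScalars k) ≤ theta M θ (N.restrictScalars k) := by
  have h1 : ∀ D, θ D < 0 → hilbAt M (N.restrictScalars k) D ≤
      hilbAt M ((genIn k A R M {D | θ D < 0} N).restrictScalars k) D := fun D hD => by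
    haveI := (hM.2.2 D).1
    haveI : Module.Finite k ↥((genIn k A R M {D | θ D < 0} N).restrictScalars k ⊓ isoComp M D.1) :=
      Submodule.finiteDimensional_of_le inf_le_right
    exact Submodule.finrank_mono (le_inf (inf_isoComp_le_genIn k A R M _ N hD) inf_le_right)
  exact ⟨h1, theta_le hM.2.2 hsum (genIn_le k A R M _ N) h1⟩

end Module

end Groth.L28.GhConst
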